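import Groth.Agent.Lib.Cyc.Dev.Scheme
import Groth.Agent.Lib.Devissage.Closure
import Groth.Agent.Lib.Cyc.DimFun
import Groth.Prelude.Def_ChowK

/-!
The sheaf of a cycle: locally finite sums of structure sheaves of closures of points.
-/

set_option autoImplicit false
set_option linter.style.haveILetI false
universe u

open CategoryTheory Limits AlgebraicGeometry Opposite TopologicalSpace

namespace Groth.Agent.Lib.Cyc.K0.Sum

open Groth.Agent.Lib Groth.Agent.Lib.Modules.StalkModule

variable {X : Scheme.{u}}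

noncomputable section

lemma span_stalk_sigma {ι : Type u} (F : ι → X.Modules) (y : X)
    (W : Submodule (X.presheaf.stalk y) ((∐ F).presheaf.stalk y))
    (h : ∀ n v, stalkMapₗ (Sigma.ι F n) y v ∈ W) : W = ⊤ := by
  have hc := isColimitCofanMkObjOfIsColimit (Modules.Stalk.stalkFunctor X y) _ _
    (coproductIsCoproduct F)
  let q : (Modules.Stalk.stalkFunctor X y).obj (∐ F) ⟶
      AddCommGrpCat.of ((∐ F).presheaf.stalk y ⧸ W) :=
    AddCommGrpCat.ofHom W.mkQ.toAddMonoidHom
  have e : q = 0 := by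
    refine Cofan.IsColimit.hom_ext hc _ _ fun n => ?_
    ext w
    exact (Submodule.Quotient.mk_eq_zero W).2 (h n w)
  refine eq_top_iff.2 fun v _ => (Submodule.Quotient.mk_eq_zero W).1 ?_
  exact congrArg (fun k => (ConcreteCategory.hom k) v) e

lemma isQCoh_sigma {ι : Type u} (F : ι → X.Modules) (h : ∀ n, (F n).IsQuasicoherent) :
    (∐ F).IsQuasicoherent :=
  QCoh.Closure.isQCoh_of_isColimit (colimit.isColimit (Discrete.functor F)) fun j => h j.as

lemma sigma_isCoh [IsLocallyNoetherian X] {ι : Type u} (F : ι → X.Modules)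
    (hF : ∀ x : X, ∃ U : X.Opens, x ∈ U ∧ ∃ s : Finset ι, ∀ n ∉ s, ∀ y ∈ U,
      Subsingleton ((F n).presheaf.stalk y))
    (h : ∀ n, Coh.IsCoh (F n)) : Coh.IsCoh (∐ F) := by
  haveI := isQCoh_sigma F fun n => (h n).1
  refine ⟨inferInstance, CohBasics.Affine.isFiniteType_of_finite_sections fun x => ?_⟩
  obtain ⟨V, hx, N, hN⟩ := hF x
  obtain ⟨U, hU, hxU, hUV⟩ := exists_isAffineOpen_mem_and_subset (X := X) (x := x) (U := V) hx
  refine ⟨U, hU, hxU, ?_⟩
  haveI := fun n => CohBasics.Closure.finite_sections (h n) hU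
  classical
  choose s hs using fun n => (Module.finite_def.1 (this n))
  let S : Finset Γ(∐ F, U) := N.biUnion fun n => (s n).image ((Sigma.ι F n).app U)
  refine Module.finite_def.2 ⟨S, ?_⟩
  refine CohBasics.Affine.span_eq_top_of_germ hU _ fun y hy => span_stalk_sigma F y _ fun n v => ?_
  by_cases hn : n ∈ N
  · haveI := (h n).1
    have hv : v ∈ Submodule.span (X.presheaf.stalk y) ((F n).presheaf.germ U y hy '' (s n : Set Γ(F n, U))) := by
      rw [CohBasics.Affine.germ_span_eq_top hU _ (hs n) hy]; trivial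
    have := Submodule.apply_mem_span_image_of_mem_span (stalkMapₗ (Sigma.ι F n) y) hv
    refine Submodule.span_mono ?_ this
    rintro _ ⟨_, ⟨t, ht, rfl⟩, rfl⟩
    refine ⟨(Sigma.ι F n).app U t, ?_, (stalkMapₗ_germ (Sigma.ι F n) hy t).symm⟩
    exact Finset.mem_biUnion.2 ⟨n, hn, Finset.mem_image_of_mem _ ht⟩
  · haveI := hN n hn y (hUV hy)
    rw [Subsingleton.elim v 0, map_zero]
    exact Submodule.zero_mem _

/-- The stalk of a sum with only finitely many nonzero summands at the point. -/
lemma exists_stalk_sigma_equiv {ι : Type u} (F : ι → X.Modules) (y : X) {κ : Type} [Fintype κ]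
    (e : κ → ι) (he : Function.Injective e)
    (h : ∀ n, n ∉ Set.range e → Subsingleton ((F n).presheaf.stalk y)) :
    Nonempty (((j : κ) → (F (e j)).presheaf.stalk y) ≃ₗ[X.presheaf.stalk y] (∐ F).presheaf.stalk y) := by
  classical
  let φ : ((j : κ) → (F (e j)).presheaf.stalk y) →ₗ[X.presheaf.stalk y] (∐ F).presheaf.stalk y :=
    LinearMap.lsum (X.presheaf.stalk y) (fun j => (F (e j)).presheaf.stalk y) (X.presheaf.stalk y)
      fun j => stalkMapₗ (Sigma.ι F (e j)) y
  refine ⟨LinearEquiv.ofBijective φ ⟨?_, ?_⟩⟩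
  · rw [injective_iff_map_eq_zero]
    intro v hv
    funext j
    let π : ∐ F ⟶ F (e j) :=
      Sigma.desc fun n => if hn : n = e j then eqToHom (by rw [hn]) else 0
    have key : ∀ k w, stalkMapₗ π y (stalkMapₗ (Sigma.ι F (e k)) y w) =
        if hk : k = j then (hk ▸ w) else 0 := by
      intro k w
      rw [← LinearMap.comp_apply, ← stalkMapₗ_comp]
      simp only [π, colimit.ι_desc, Cofan.mk_pt, Cofan.mk_ι_app]
      by_cases hk : k = j
      · subst hk
        rw [dif_pos rfl, dif_pos rfl, eqToHom_refl, stalkMapₗ_id]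
        rfl
      · rw [dif_neg (he.ne hk), dif_neg hk, stalkMapₗ_zero, LinearMap.zero_apply]
    have := congrArg (stalkMapₗ π y) hv
    simp only [φ, map_zero, LinearMap.lsum_apply, LinearMap.sum_apply, map_sum, LinearMap.comp_apply, LinearMap.proj_apply] at this
    rw [Finset.sum_eq_single j (fun k _ hk => (key k (v k)).trans (dif_neg hk))
      (fun hj => absurd (Finset.mem_univ j) hj)] at this
    exact ((dif_pos rfl).symm.trans (key j (v j)).symm).trans this
  · rw [← LinearMap.range_eq_top]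
    refine span_stalk_sigma F y _ fun n v => ?_
    by_cases hn : n ∈ Set.range e
    · obtain ⟨j, rfl⟩ := hn
      refine ⟨Pi.single j v, ?_⟩
      simp only [φ, LinearMap.lsum_apply, LinearMap.sum_apply, LinearMap.comp_apply, LinearMap.proj_apply]
      rw [Finset.sum_eq_single j
        (fun k _ hk => by simp [Pi.single_eq_of_ne hk]) (fun hj => absurd (Finset.mem_univ j) hj)]
      simp
    · haveI := h n hn
      rw [Subsingleton.elim v 0, map_zero]
      exact Submodule.zero_mem _

variable [IsLocallyNoetherian X] (δ : X → ℤ)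

/-- The index type of the sheaf of a cycle. -/
abbrev Idx (a : X → ℤ) := Σ ζ : {ζ : X // 0 < a ζ}, Fin (a ζ.1).toNat

lemma subsingleton_closure_stalk {ζ y : X} (h : ¬ ζ ⤳ y) :
    Subsingleton ((Cyc.closureStructureSheaf ζ).presheaf.stalk y) := by
  by_contra hs
  exact h (specializes_iff_mem_closure.2 (Devissage.Closure.support_closureStructureSheaf ζ hs))

variable {δ}

lemma cycleSheaf_spec (hδ : Cyc.IsDimFun X δ) (k : ℤ) (a : X → ℤ) (ha : ∀ x, a x ≠ 0 → δ x = k)
    (hfin : ∀ x : X, ∃ U : X.Opens, x ∈ U ∧ ((U : Set X) ∩ a.support).Finite) :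
    Cyc.CohLe δ k (Cyc.cycleSheafPos a) ∧
      ∀ y, δ y = k →
        Module.length (X.presheaf.stalk y) ((Cyc.cycleSheafPos a).presheaf.stalk y) = (a y).toNat ∧
        ∀ c : X.presheaf.stalk y, ¬ IsUnit c → ∀ v : (Cyc.cycleSheafPos a).presheaf.stalk y, c • v = 0 := by
  classical
  have hpos : ∀ n : Idx a, δ n.1.1 = k := fun n => ha _ (ne_of_gt n.1.2)
  have hcoh : Coh.IsCoh (Cyc.cycleSheafPos a) := by
    refine sigma_isCoh _ (fun x => ?_) fun n => Devissage.Closure.isCoh_closureStructureSheaf _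
    obtain ⟨U, hx, hU⟩ := hfin x
    have hS : {ζ : {ζ : X // 0 < a ζ} | ζ.1 ∈ U}.Finite :=
      (hU.preimage Subtype.val_injective.injOn).subset fun ζ hζ => ⟨hζ, ne_of_gt ζ.2⟩
    refine ⟨U, hx, hS.toFinset.sigma fun _ => Finset.univ, fun n hn y hy => ?_⟩
    refine subsingleton_closure_stalk fun hsp => hn ?_
    refine Finset.mem_sigma.2 ⟨hS.mem_toFinset.2 (hsp.mem_open U.2 hy), Finset.mem_univ _⟩
  refine ⟨⟨hcoh, fun y hy => ?_⟩, fun y hy => ?_⟩
  · by_contra hlt
    have hbot : (⊥ : Submodule (X.presheaf.stalk y) ((Cyc.cycleSheafPos a).presheaf.stalk y)) = ⊤ :=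
      span_stalk_sigma _ y _ fun n v => by
        haveI : Subsingleton ((Cyc.closureStructureSheaf n.1.1).presheaf.stalk y) :=
          subsingleton_closure_stalk fun hsp => hlt ((DimFun.le_of_specializes hδ hsp).trans (hpos n).le)
        rw [Subsingleton.elim v 0, map_zero]
        exact Submodule.zero_mem _
    haveI := hy
    obtain ⟨v, hv⟩ := exists_ne (0 : (Cyc.cycleSheafPos a).presheaf.stalk y)
    exact hv ((Submodule.mem_bot _).1 (hbot ▸ trivial :
      v ∈ (⊥ : Submodule (X.presheaf.stalk y) _)))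
  · have e : ∀ n : Idx a, n.1.1 ≠ y → Subsingleton ((Cyc.closureStructureSheaf n.1.1).presheaf.stalk y) :=
      fun n hn => subsingleton_closure_stalk fun hsp =>
        hn (DimFun.eq_of_specializes_of_le hδ hsp (by rw [hy, hpos n]))
    let j : Fin (a y).toNat → Idx a := fun m => ⟨⟨y, by have := m.2; omega⟩, m⟩
    obtain ⟨φ⟩ := exists_stalk_sigma_equiv (fun n : Idx a => Cyc.closureStructureSheaf n.1.1) y j
      (fun m m' h => by simpa [j] using h)
      (fun n hn => e n fun hny => hn (by
        obtain ⟨⟨ζ, hζ⟩, m⟩ := n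
        obtain rfl : ζ = y := hny
        exact ⟨m, rfl⟩))
    have h1 := Devissage.Closure.length_closureStructureSheaf y
    refine ⟨?_, fun c hc v => ?_⟩
    · refine φ.symm.length_eq.trans ?_
      rw [Module.length_pi_of_fintype]
      simp only [j, h1, Finset.sum_const, Finset.card_univ, Fintype.card_fin, nsmul_one]
    · obtain ⟨w, rfl⟩ := φ.surjective v
      haveI : IsSimpleModule (X.presheaf.stalk y) ((Cyc.closureStructureSheaf y).presheaf.stalk y) :=
        Module.length_eq_one_iff.mp h1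
      obtain ⟨I, hI, ⟨ψ⟩⟩ := isSimpleModule_iff_quot_maximal.mp this
      have hcw : c • w = 0 := funext fun m => ψ.injective (by
        rw [Pi.smul_apply, Pi.zero_apply, map_smul, map_zero]
        obtain ⟨r, hr⟩ := Ideal.Quotient.mk_surjective (ψ (w m))
        rw [← hr]
        exact Ideal.Quotient.eq_zero_iff_mem.mpr
          (I.mul_mem_right r (IsLocalRing.eq_maximalIdeal hI ▸ hc)))
      exact (φ.map_smul c w).symm.trans ((congrArg φ hcw).trans φ.map_zero)

end

end Groth.Agent.Lib.Cyc.K0.Sum
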