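import Groth.Agent.Lib.Cyc.K0.SkyFam
import Groth.Agent.Lib.Cyc.K0.Sum
import Groth.Agent.Lib.Cyc.SheafLen
import Groth.Agent.Lib.KRes.CohP
import Groth.Agent.H75.RedSub

/-!
`K₀(Coh_{≤k}) / Coh_{≤k-1} ≅ Z_k`.
-/

set_option autoImplicit false
set_option linter.style.haveILetI false
universe u

open CategoryTheory Limits AlgebraicGeometry Opposite TopologicalSpace

namespace Groth.Agent.Lib.Cyc.K0.Cycles

open Groth.Agent.Lib Groth.Agent.Lib.Modules.StalkModule Groth.Agent.Lib.KRes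

variable {X : Scheme.{u}}

noncomputable section

lemma cohLe_of_mono {δ : X → ℤ} {k : ℤ} {A B : X.Modules} (f : A ⟶ B) [Mono f] (hA : Coh.IsCoh A)
    (hB : Cyc.CohLe δ k B) : Cyc.CohLe δ k A :=
  ⟨hA, fun x hx => hB.2 x <| by
    haveI := hx
    exact ((mono_iff_stalkMapₗ_injective f).1 inferInstance x).nontrivial⟩

lemma cohLe_of_epi {δ : X → ℤ} {k : ℤ} {A B : X.Modules} (f : A ⟶ B) [Epi f] (hB : Coh.IsCoh B)
    (hA : Cyc.CohLe δ k A) : Cyc.CohLe δ k B :=
  ⟨hB, fun x hx => hA.2 x <| by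
    haveI := hx
    exact ((epi_iff_stalkMapₗ_surjective f).1 inferInstance x).nontrivial⟩

lemma cohLe_biprod {δ : X → ℤ} {k : ℤ} {A B : X.Modules} (hA : Cyc.CohLe δ k A)
    (hB : Cyc.CohLe δ k B) : Cyc.CohLe δ k (A ⊞ B) := by
  refine ⟨CohBasics.Closure.isCoh_biprod hA.1 hB.1, fun x hx => ?_⟩
  have hx' : x ∈ CohB1.support (A ⊞ B) := hx |> not_subsingleton_iff_nontrivial.2
  have h2 := Modules.Support.support_eq_union_of_shortExact
    (ShortComplex.Splitting.ofHasBinaryBiproduct A B).shortExact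
  rw [h2] at hx'
  rcases hx' with h | h
  · exact hA.2 x (not_subsingleton_iff_nontrivial.1 h)
  · exact hB.2 x (not_subsingleton_iff_nontrivial.1 h)

lemma mk_rel (δ : X → ℤ) (a b : ℤ) {S : ShortComplex X.Modules} (hS : S.ShortExact)
    (h₁ : Cyc.CohLe δ a S.X₁) (h₂ : Cyc.CohLe δ a S.X₂) (h₃ : Cyc.CohLe δ a S.X₃) :
    Cyc.toK0CohQuot δ a b S.X₂ = Cyc.toK0CohQuot δ a b S.X₁ + Cyc.toK0CohQuot δ a b S.X₃ := by
  unfold Cyc.toK0CohQuot
  rw [KSub.rel hS h₁ h₂ h₃]
  rfl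

lemma mk_eq_zero (δ : X → ℤ) (a b : ℤ) {F : X.Modules} (hF : Cyc.CohLe δ b F) :
    Cyc.toK0CohQuot δ a b F = 0 :=
  (QuotientAddGroup.eq_zero_iff _).2 (AddSubgroup.subset_closure ⟨F, hF, rfl⟩)

variable [IsLocallyNoetherian X] {δ : X → ℤ} (k : ℤ)

/-- Modules agreeing at all points of dimension `k` through a morphism have the same class. -/
lemma cl_eq_of_bijective {A M : X.Modules} (f : A ⟶ M) (hA : Cyc.CohLe δ k A) (hM : Cyc.CohLe δ k M)
    (h : ∀ y, δ y = k → Function.Bijective (stalkMapₗ f y)) :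
    Cyc.toK0CohQuot δ k (k - 1) A = Cyc.toK0CohQuot δ k (k - 1) M := by
  let p := Abelian.factorThruImage f
  let m := Abelian.image.ι f
  have hI : Coh.IsCoh (Abelian.image f) := CohBasics.Closure.isCoh_image f hA.1.1 hM.1
  have hI' : Cyc.CohLe δ k (Abelian.image f) := cohLe_of_mono m hI hM
  have hfac : ∀ y a, stalkMapₗ m y (stalkMapₗ p y a) = stalkMapₗ f y a := fun y a => by
    rw [← LinearMap.comp_apply, ← stalkMapₗ_comp, Abelian.image.fac]
  have hK : Coh.IsCoh (kernel p) := CohBasics.Closure.isCoh_kernel p hA.1 hI.1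
  have hC : Coh.IsCoh (cokernel m) := CohBasics.Closure.isCoh_cokernel m hI.1 hM.1
  have hK' : Cyc.CohLe δ (k - 1) (kernel p) := by
    refine ⟨hK, fun y hy => ?_⟩
    have hle := (cohLe_of_mono (kernel.ι p) hK hA).2 y hy
    rcases hle.lt_or_eq with hlt | heq
    · omega
    · exfalso
      haveI := hy
      obtain ⟨v, hv⟩ := exists_ne (0 : (kernel p).presheaf.stalk y)
      apply hv
      apply (mono_iff_stalkMapₗ_injective (kernel.ι p)).1 inferInstance y
      apply (h y heq).1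
      rw [← hfac, ← LinearMap.comp_apply (stalkMapₗ p y), ← stalkMapₗ_comp, kernel.condition,
        stalkMapₗ_zero, LinearMap.zero_apply, map_zero, map_zero, map_zero]
  have hC' : Cyc.CohLe δ (k - 1) (cokernel m) := by
    refine ⟨hC, fun y hy => ?_⟩
    have hle := (cohLe_of_epi (cokernel.π m) hC hM).2 y hy
    rcases hle.lt_or_eq with hlt | heq
    · omega
    · exfalso
      haveI := hy
      obtain ⟨v, hv⟩ := exists_ne (0 : (cokernel m).presheaf.stalk y)
      apply hv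
      obtain ⟨w, rfl⟩ := (epi_iff_stalkMapₗ_surjective (cokernel.π m)).1 inferInstance y v
      obtain ⟨a, rfl⟩ := (h y heq).2 w
      rw [← hfac, ← LinearMap.comp_apply (stalkMapₗ (cokernel.π m) y), ← stalkMapₗ_comp,
        cokernel.condition, stalkMapₗ_zero, LinearMap.zero_apply]
  have e1 := mk_rel δ k (k - 1) (Cyc.Dev.Basic.shortExact_of_epi p)
    (cohLe_of_mono (kernel.ι p) hK hA) hA hI'
  have e2 := mk_rel δ k (k - 1) (Cyc.Dev.Basic.shortExact_of_mono m)
    hI' hM (cohLe_of_epi (cokernel.π m) hC hM)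
  dsimp only at e1 e2
  rw [mk_eq_zero δ k (k - 1) hK', zero_add] at e1
  rw [mk_eq_zero δ k (k - 1) hC', add_zero] at e2
  rw [e1, e2]

/-- Killed by the maximal ideals at the points of dimension `k`. -/
def IsKilled (δ : X → ℤ) (k : ℤ) (F : X.Modules) : Prop :=
  ∀ y, δ y = k → ∀ c : X.presheaf.stalk y, ¬ IsUnit c → ∀ v : F.presheaf.stalk y, c • v = 0

lemma isMaxSupp (hδ : Cyc.IsDimFun X δ) {F : X.Modules} (hF : Cyc.CohLe δ k F) {y : X}
    (hy : δ y = k) : SheafLen.IsMaxSupp F y :=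
  fun z hz hn => DimFun.eq_of_specializes_of_le hδ hz (by rw [hy]; exact hF.2 z hn)

lemma finite_support (hδ : Cyc.IsDimFun X δ) {F : X.Modules} (hF : Cyc.CohLe δ k F) (x : X) :
    ∃ U : X.Opens, x ∈ U ∧ ((U : Set X) ∩ {y | δ y = k ∧ Nontrivial (F.presheaf.stalk y)}).Finite := by
  haveI := hF.1.2
  obtain ⟨U, hU, hx, hfin⟩ := DimFun.exists_open_finite_maxPts (Modules.Support.isClosed_support F) x
  refine ⟨⟨U, hU⟩, hx, hfin.subset ?_⟩
  rintro y ⟨hyU, hyk, hy⟩
  exact ⟨hyU, not_subsingleton_iff_nontrivial.2 hy, fun z hz hzy =>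
    isMaxSupp k hδ hF hyk z hzy (not_subsingleton_iff_nontrivial.1 hz)⟩

lemma length_ne_top (hδ : Cyc.IsDimFun X δ) {F : X.Modules} (hF : Cyc.CohLe δ k F) {y : X}
    (hy : δ y = k) : Module.length (X.presheaf.stalk y) (F.presheaf.stalk y) ≠ ⊤ :=
  SheafLen.length_ne_top hF.1 y (isMaxSupp k hδ hF hy)

lemma exists_equiv_of_killed {R : Type u} [CommRing R] [IsLocalRing R] {M N : Type u}
    [AddCommGroup M] [Module R M] [AddCommGroup N] [Module R N]
    (hM : ∀ c : R, ¬ IsUnit c → ∀ v : M, c • v = 0) (hN : ∀ c : R, ¬ IsUnit c → ∀ v : N, c • v = 0)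
    (hfin : Module.length R M ≠ ⊤) (h : Module.length R M = Module.length R N) :
    Nonempty (M ≃ₗ[R] N) := by
  have hm : ∀ {P : Type u} [AddCommGroup P] [Module R P], (∀ c : R, ¬ IsUnit c → ∀ v : P, c • v = 0) →
      Module.IsTorsionBySet R P (IsLocalRing.maximalIdeal R : Set R) :=
    fun h v c => h c.1 c.2 v
  letI : Module (R ⧸ IsLocalRing.maximalIdeal R) M := (hm hM).module
  letI : Module (R ⧸ IsLocalRing.maximalIdeal R) N := (hm hN).module
  haveI : IsScalarTower R (R ⧸ IsLocalRing.maximalIdeal R) M := ⟨fun a b v => by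
    obtain ⟨b, rfl⟩ := Ideal.Quotient.mk_surjective b
    exact mul_smul a b v⟩
  haveI : IsScalarTower R (R ⧸ IsLocalRing.maximalIdeal R) N := ⟨fun a b v => by
    obtain ⟨b, rfl⟩ := Ideal.Quotient.mk_surjective b
    exact mul_smul a b v⟩
  letI : Field (R ⧸ IsLocalRing.maximalIdeal R) := Ideal.Quotient.field _
  have hM' := Module.length_eq_of_surjective (R := R ⧸ IsLocalRing.maximalIdeal R) (M := M)
    (S := R) Ideal.Quotient.mk_surjective
  have hN' := Module.length_eq_of_surjective (R := R ⧸ IsLocalRing.maximalIdeal R) (M := N)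
    (S := R) Ideal.Quotient.mk_surjective
  rw [hM', hN'] at h
  rw [hM'] at hfin
  haveI : Module.Finite (R ⧸ IsLocalRing.maximalIdeal R) M :=
    have := Module.length_ne_top_iff.1 hfin
    have := (isFiniteLength_iff_isNoetherian_isArtinian.1 this).1
    inferInstance
  haveI : Module.Finite (R ⧸ IsLocalRing.maximalIdeal R) N :=
    have := Module.length_ne_top_iff.1 (h ▸ hfin)
    have := (isFiniteLength_iff_isNoetherian_isArtinian.1 this).1
    inferInstance
  rw [Module.length_eq_finrank, Module.length_eq_finrank, Nat.cast_inj] at h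
  exact ⟨(LinearEquiv.ofFinrankEq M N h).restrictScalars R⟩

lemma cl_eq_of_killed (hδ : Cyc.IsDimFun X δ) {F G : X.Modules} (hF : Cyc.CohLe δ k F)
    (hG : Cyc.CohLe δ k G) (kF : IsKilled δ k F) (kG : IsKilled δ k G)
    (hlen : Cyc.sheafFun δ k F = Cyc.sheafFun δ k G) :
    Cyc.toK0CohQuot δ k (k - 1) F = Cyc.toK0CohQuot δ k (k - 1) G := by
  classical
  let D : Set X := {y | δ y = k ∧ Nontrivial (F.presheaf.stalk y)}
  have heq : ∀ y, δ y = k → Module.length (X.presheaf.stalk y) (F.presheaf.stalk y) =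
      Module.length (X.presheaf.stalk y) (G.presheaf.stalk y) := fun y hy => by
    have := congrFun hlen y
    simp only [Cyc.sheafFun, if_pos hy, Nat.cast_inj] at this
    rw [← ENat.natCast_toNat (length_ne_top k hδ hF hy),
      ← ENat.natCast_toNat (length_ne_top k hδ hG hy), this]
  have e : ∀ y : D, Nonempty (G.presheaf.stalk y.1 ≃ₗ[X.presheaf.stalk y.1] F.presheaf.stalk y.1) :=
    fun y => exists_equiv_of_killed (kG y.1 y.2.1) (kF y.1 y.2.1) (length_ne_top k hδ hG y.2.1)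
      (heq y.1 y.2.1).symm
  replace e := fun y => (e y).some
  let S := SkyFam.sky D fun y : D => (F.presheaf.stalk y.1 : Type u)
  haveI hSq : S.IsQuasicoherent := SkyFam.isQCoh_sky D _ fun y => kF y.1 y.2.1
  have hsep : ∀ y : D, ∃ W : X.Opens, y.1 ∈ W ∧ ∀ y' : D, y'.1 ∈ W → y' = y := by
    intro y
    obtain ⟨U, hy, hfin⟩ := finite_support k hδ hF y.1
    let s : Set X := ((U : Set X) ∩ D) \ {y.1}
    have hs : s.Finite := hfin.subset Set.sdiff_subset
    let C : Set X := ⋃ z ∈ s, closure {z}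
    have hC : IsClosed C := hs.isClosed_biUnion fun z _ => isClosed_closure
    refine ⟨U ⊓ ⟨Cᶜ, hC.isOpen_compl⟩, ⟨hy, ?_⟩, fun y' hy' => ?_⟩
    · intro hyC
      obtain ⟨z, hz, hzy⟩ := Set.mem_iUnion₂.1 hyC
      exact hz.2 (DimFun.eq_of_specializes_of_le hδ (specializes_iff_mem_closure.2 hzy)
        (le_of_eq (hz.1.2.1.trans y.2.1.symm)))
    · by_contra hne
      exact hy'.2 (Set.mem_iUnion₂.2 ⟨y'.1, ⟨⟨hy'.1, y'.2⟩, fun h => hne (Subtype.ext h)⟩,
        subset_closure rfl⟩)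
  let a : F ⟶ S := SkyFam.toSky fun y => LinearMap.id
  let b : G ⟶ S := SkyFam.toSky fun y => (e y).toLinearMap
  let ψ : F ⊞ G ⟶ S := biprod.desc a b
  haveI := hF.1.1
  haveI := hG.1.1
  have hFG := cohLe_biprod hF hG
  have hkq : Coh.IsQCoh (kernel ψ) := by
    haveI := hFG.1.1
    exact QCoh.Closure.isQCoh_kernel ψ
  let M := cokernel (kernel.ι ψ)
  let π : F ⊞ G ⟶ M := cokernel.π (kernel.ι ψ)
  let m : M ⟶ S := cokernel.desc (kernel.ι ψ) ψ (kernel.condition ψ)
  haveI : Mono m := inferInstanceAs (Mono (Abelian.factorThruCoimage ψ))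
  have hMc : Coh.IsCoh M := CohBasics.Closure.isCoh_cokernel _ hkq hFG.1
  have hM : Cyc.CohLe δ k M := cohLe_of_epi π hMc hFG
  have hπm : π ≫ m = ψ := cokernel.π_desc _ _ _
  have ha : (biprod.inl ≫ π) ≫ m = a := by rw [Category.assoc, hπm, biprod.inl_desc]
  have hb : (biprod.inr ≫ π) ≫ m = b := by rw [Category.assoc, hπm, biprod.inr_desc]
  have hbij : ∀ {A : X.Modules} (f : A ⟶ M) (g : A ⟶ S), f ≫ m = g →
      ∀ y : D, Function.Bijective (stalkMapₗ g y.1) → Function.Bijective (stalkMapₗ f y.1) := by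
    intro A f g hfg y hg
    have hm := (mono_iff_stalkMapₗ_injective m).1 inferInstance y.1
    have hc : ∀ v, stalkMapₗ m y.1 (stalkMapₗ f y.1 v) = stalkMapₗ g y.1 v := fun v => by
      rw [← LinearMap.comp_apply, ← stalkMapₗ_comp, hfg]
    refine ⟨fun v w h => hg.1 (by rw [← hc, ← hc, h]), fun z => ?_⟩
    obtain ⟨v, hv⟩ := hg.2 (stalkMapₗ m y.1 z)
    exact ⟨v, hm ((hc v).trans hv)⟩
  have hoff : ∀ y, δ y = k → y ∉ D → Subsingleton (F.presheaf.stalk y) ∧
      Subsingleton (G.presheaf.stalk y) ∧ Subsingleton (M.presheaf.stalk y) := by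
    intro y hy hyD
    have h1 : Subsingleton (F.presheaf.stalk y) := not_nontrivial_iff_subsingleton.1 fun h => hyD ⟨hy, h⟩
    have h2 : Subsingleton (G.presheaf.stalk y) := by
      rw [← Module.length_eq_zero_iff (R := X.presheaf.stalk y), ← heq y hy, Module.length_eq_zero_iff]
      exact h1
    refine ⟨h1, h2, subsingleton_of_forall_eq 0 fun v => ?_⟩
    obtain ⟨w, rfl⟩ := (epi_iff_stalkMapₗ_surjective π).1 inferInstance y v
    have hw : w = stalkMapₗ (biprod.inl : F ⟶ F ⊞ G) y (stalkMapₗ (biprod.fst : F ⊞ G ⟶ F) y w) +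
        stalkMapₗ (biprod.inr : G ⟶ F ⊞ G) y (stalkMapₗ (biprod.snd : F ⊞ G ⟶ G) y w) := by
      rw [← LinearMap.comp_apply, ← LinearMap.comp_apply, ← stalkMapₗ_comp, ← stalkMapₗ_comp,
        ← LinearMap.add_apply, ← stalkMapₗ_add, biprod.total, stalkMapₗ_id]
      rfl
    rw [hw, Subsingleton.elim (stalkMapₗ (biprod.fst : F ⊞ G ⟶ F) y w) 0,
      Subsingleton.elim (stalkMapₗ (biprod.snd : F ⊞ G ⟶ G) y w) 0, map_zero, map_zero, add_zero, map_zero]
  have hbα : ∀ y, δ y = k → Function.Bijective (stalkMapₗ (biprod.inl ≫ π) y) := fun y hy => by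
    by_cases hyD : y ∈ D
    · exact hbij _ a ha ⟨y, hyD⟩ (SkyFam.bijective_stalk_toSky _ (hsep ⟨y, hyD⟩) Function.bijective_id)
    · obtain ⟨h1, -, h3⟩ := hoff y hy hyD
      exact ⟨fun v w _ => Subsingleton.elim v w, fun z => ⟨0, Subsingleton.elim _ z⟩⟩
  have hbβ : ∀ y, δ y = k → Function.Bijective (stalkMapₗ (biprod.inr ≫ π) y) := fun y hy => by
    by_cases hyD : y ∈ D
    · exact hbij _ b hb ⟨y, hyD⟩ (SkyFam.bijective_stalk_toSky _ (hsep ⟨y, hyD⟩) (e ⟨y, hyD⟩).bijective)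
    · obtain ⟨-, h2, h3⟩ := hoff y hy hyD
      exact ⟨fun v w _ => Subsingleton.elim v w, fun z => ⟨0, Subsingleton.elim _ z⟩⟩
  exact (cl_eq_of_bijective k _ hF hM hbα).trans (cl_eq_of_bijective k _ hG hM hbβ).symm

lemma sheafFun_shortExact (hδ : Cyc.IsDimFun X δ) {S : ShortComplex X.Modules} (hS : S.ShortExact)
    (h₂ : Cyc.CohLe δ k S.X₂) :
    Cyc.sheafFun δ k S.X₂ = Cyc.sheafFun δ k S.X₁ + Cyc.sheafFun δ k S.X₃ := by
  funext y
  simp only [Cyc.sheafFun, Pi.add_apply]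
  by_cases hy : δ y = k
  · have h := SheafLen.length_additive S hS y
    have hne := length_ne_top k hδ h₂ hy
    rw [h] at hne
    have hne := (WithTop.add_ne_top (α := ℕ)).1 hne
    rw [if_pos hy, if_pos hy, if_pos hy, h, ENat.toNat_add hne.1 hne.2]
    push_cast
    rfl
  · simp [if_neg hy]

/-- The coefficient map. -/
def ψ (hδ : Cyc.IsDimFun X δ) : Cyc.K0CohQuot δ k (k - 1) →+ (X → ℤ) :=
  QuotientAddGroup.lift _ (KSub.lift (fun F => Cyc.sheafFun δ k F)
    fun _ hS _ h₂ _ => sheafFun_shortExact k hδ hS h₂) <| by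
    refine (AddSubgroup.closure_le _).2 ?_
    rintro _ ⟨F, hF, rfl⟩
    have hF' : Cyc.CohLe δ k F := ⟨hF.1, fun x hx => (hF.2 x hx).trans (by omega)⟩
    rw [SetLike.mem_coe, AddMonoidHom.mem_ker, KSub.lift_cl _ _ hF']
    funext y
    simp only [Cyc.sheafFun, Pi.zero_apply]
    by_cases hy : δ y = k
    · haveI : Subsingleton (F.presheaf.stalk y) := not_nontrivial_iff_subsingleton.1 fun h => by
        have := hF.2 y h; omega
      rw [if_pos hy, Module.length_eq_zero]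
      rfl
    · rw [if_neg hy]

lemma ψ_cl (hδ : Cyc.IsDimFun X δ) {F : X.Modules} (hF : Cyc.CohLe δ k F) :
    ψ k hδ (Cyc.toK0CohQuot δ k (k - 1) F) = Cyc.sheafFun δ k F := by
  rw [Cyc.toK0CohQuot, ψ, QuotientAddGroup.lift_mk, KSub.lift_cl _ _ hF]

open Cyc.Dev in
/-- Every class is the class of a sheaf killed at the points of dimension `k`. -/
lemma exists_killed (hδ : Cyc.IsDimFun X δ) {F : X.Modules} (hF : Cyc.CohLe δ k F) :
    ∃ G, Cyc.CohLe δ k G ∧ IsKilled δ k G ∧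
      Cyc.toK0CohQuot δ k (k - 1) F = Cyc.toK0CohQuot δ k (k - 1) G := by
  haveI := hF.1.2
  let W : Closeds X := ⟨CohB1.support F, Modules.Support.isClosed_support F⟩
  let I := Scheme.IdealSheafData.vanishingIdeal W
  let i := I.subschemeι
  haveI : AlgebraicGeometry.IsReduced I.subscheme := H75.RedSub.isReduced_vanishingIdeal W
  have hrange : Set.range i = CohB1.support F := by
    rw [Scheme.IdealSheafData.range_subschemeι, Scheme.IdealSheafData.coe_support_vanishingIdeal]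
    rfl
  have hW : ∀ x, x ∈ Set.range i → δ x ≤ k := fun x hx =>
    hF.2 x (not_subsingleton_iff_nontrivial.1 (hrange ▸ hx : x ∈ CohB1.support F))
  let S := SchemeCase.setup i
  have hFQ : S.Q F := ⟨hF.1, fun x hx => hrange ▸ not_subsingleton_iff_nontrivial.2 hx⟩
  have hle : ∀ A, S.Q A → Cyc.CohLe δ k A := fun A hA => ⟨hA.1, fun x hx => hW x (hA.2 x hx)⟩
  have hP := S.Gr_P hFQ
  refine ⟨S.Gr F, hle _ hP.1, ?_, ?_⟩
  · intro y hy c hc v
    by_cases hv : Subsingleton ((S.Gr F).presheaf.stalk y)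
    · exact Subsingleton.elim _ _
    obtain ⟨z, rfl⟩ := hP.1.2 y (not_subsingleton_iff_nontrivial.1 hv)
    have hmem : closure {z} ∈ irreducibleComponents I.subscheme := by
      refine ⟨isIrreducible_singleton.closure, fun T hT hzT => ?_⟩
      have hg := hT.isGenericPoint_genericPoint_closure
      have h2 : hT.genericPoint ⤳ z := hg.specializes (subset_closure (hzT (subset_closure rfl)))
      have h3 : i hT.genericPoint = i z := DimFun.eq_of_specializes_of_le hδ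
        (h2.map i.continuous) (by rw [hy]; exact hW _ (Set.mem_range_self _))
      have h4 := i.isClosedEmbedding.injective h3
      intro t ht
      rw [← h4]
      exact specializes_iff_mem_closure.1 (hg.specializes (subset_closure ht))
    have hfield := isField_stalk_of_closure_mem_irreducibleComponents _ z hmem
    have hc0 : (i.stalkMap z).hom c = 0 := by
      by_contra hne
      obtain ⟨b, hb⟩ := hfield.mul_inv_cancel hne
      exact hc ((isUnit_map_iff (i.stalkMap z).hom c).1 (IsUnit.of_mul_eq_one b hb))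
    haveI : IsIso ((SchemeCase.η i).app (S.Gr F)) := hP.2
    refine ((isIso_iff_stalkMapₗ_bijective ((SchemeCase.η i).app (S.Gr F))).1 inferInstance (i.base z)).1 ?_
    refine (PushClosed.Unit.bijective_pushStalkMap i _ z).1 ?_
    rw [map_zero, map_zero, map_smul, DerivedOX.PullbackStalk.pushStalkMap_smul, hc0, zero_smul]
  · let incl : KZero.K0sub S.Q →+ Cyc.K0CohQuot δ k (k - 1) :=
      KSub.lift (fun A => Cyc.toK0CohQuot δ k (k - 1) A) fun T hT h₁ h₂ h₃ =>
        mk_rel δ k (k - 1) hT (hle _ h₁) (hle _ h₂) (hle _ h₃)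
    have h := S.dataQ.cls_swindle_mono (Main.iterI S.η F) (S.loc hFQ) (S.iterI_Q hFQ) (S.ι F) (S.gr F)
      (fun n => cokernel.π (S.ι F n)) (fun n => cokernel.condition _)
      (fun n => Basic.shortExact_of_mono (S.ι F n)) (fun n => (S.gr_P hFQ n).1)
    have h' : KZero.clSub S.Q (S.Gr F) = KZero.clSub S.Q F := h
    have := congrArg incl h'
    rw [KSub.lift_cl _ _ hP.1, KSub.lift_cl _ _ hFQ] at this
    exact this.symm

/-- The canonical representative. -/
theorem cl_eq_cycleSheaf (hδ : Cyc.IsDimFun X δ) {F : X.Modules} (hF : Cyc.CohLe δ k F) :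
    Cyc.toK0CohQuot δ k (k - 1) F =
      Cyc.toK0CohQuot δ k (k - 1) (Cyc.cycleSheafPos (Cyc.sheafFun δ k F)) := by
  obtain ⟨G, hG, kG, hFG⟩ := exists_killed k hδ hF
  have hfun : Cyc.sheafFun δ k F = Cyc.sheafFun δ k G := by
    rw [← ψ_cl k hδ hF, ← ψ_cl k hδ hG, hFG]
  obtain ⟨hN, hlen⟩ := Sum.cycleSheaf_spec hδ k (Cyc.sheafFun δ k F)
    (fun x hx => by by_contra h; exact hx (if_neg h))
    (fun x => by
      obtain ⟨U, hx, hfin⟩ := finite_support k hδ hF x
      refine ⟨U, hx, hfin.subset ?_⟩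
      rintro y ⟨hyU, hy⟩
      refine ⟨hyU, ?_, ?_⟩
      · by_contra h; exact hy (if_neg h)
      · by_contra h
        haveI := not_nontrivial_iff_subsingleton.1 h
        refine hy ?_
        simp only [Cyc.sheafFun, Module.length_eq_zero]
        split_ifs <;> rfl)
  rw [hFG]
  refine cl_eq_of_killed k hδ hG hN kG (fun y hy => (hlen y hy).2) ?_
  rw [← hfun]
  funext y
  simp only [Cyc.sheafFun]
  by_cases hy : δ y = k
  · rw [if_pos hy, if_pos hy, (hlen y hy).1]
    simp only [Cyc.sheafFun, if_pos hy, Int.toNat_natCast, ENat.toNat_coe]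
  · rw [if_neg hy, if_neg hy]

theorem exists_sub (x : Cyc.K0CohQuot δ k (k - 1)) {Z₀ : X.Modules} (hZ : Cyc.CohLe δ k Z₀)
    (h0 : Cyc.toK0CohQuot δ k (k - 1) Z₀ = 0) :
    ∃ A B, Cyc.CohLe δ k A ∧ Cyc.CohLe δ k B ∧
      x = Cyc.toK0CohQuot δ k (k - 1) A - Cyc.toK0CohQuot δ k (k - 1) B := by
  obtain ⟨x, rfl⟩ := QuotientAddGroup.mk_surjective x
  obtain ⟨x, rfl⟩ := QuotientAddGroup.mk_surjective x
  induction x using FreeAbelianGroup.induction_on with
  | zero => exact ⟨Z₀, Z₀, hZ, hZ, by rw [sub_self]; rfl⟩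
  | of A =>
    refine ⟨A.1, Z₀, A.2, hZ, ?_⟩
    rw [h0, sub_zero, Cyc.toK0CohQuot, KSub.clSub_pos A.2]
  | neg A _ =>
    refine ⟨Z₀, A.1, hZ, A.2, ?_⟩
    rw [h0, zero_sub, Cyc.toK0CohQuot, KSub.clSub_pos A.2]
    rfl
  | add a b ha hb =>
    obtain ⟨A, B, hA, hB, ha⟩ := ha
    obtain ⟨A', B', hA', hB', hb⟩ := hb
    refine ⟨A ⊞ A', B ⊞ B', cohLe_biprod hA hA', cohLe_biprod hB hB', ?_⟩
    have e1 := mk_rel δ k (k - 1) (ShortComplex.Splitting.ofHasBinaryBiproduct A A').shortExact hA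
      (cohLe_biprod hA hA') hA'
    have e2 := mk_rel δ k (k - 1) (ShortComplex.Splitting.ofHasBinaryBiproduct B B').shortExact hB
      (cohLe_biprod hB hB') hB'
    dsimp only at e1 e2
    rw [e1, e2, QuotientAddGroup.mk_add, QuotientAddGroup.mk_add, ha, hb]
    abel

theorem main (hδ : Cyc.IsDimFun X δ) :
    ∃ ψ : Cyc.K0CohQuot δ k (k - 1) →+ (X → ℤ),
      (∀ F : X.Modules, Cyc.CohLe δ k F →
        ψ (Cyc.toK0CohQuot δ k (k - 1) F) = Cyc.sheafFun δ k F) ∧
      Function.Injective ψ ∧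
      Set.range ψ = {a | ∃ α : AlgebraicCycle X ℤ, α ∈ Cyc.Zk X δ k ∧ ⇑α = a} := by
  obtain ⟨Z₀, hZ, h0⟩ : ∃ Z₀ : X.Modules, Cyc.CohLe δ k Z₀ ∧ Cyc.toK0CohQuot δ k (k - 1) Z₀ = 0 := by
    let Z₀ := cokernel (𝟙 (Coh.structureModule X))
    have hz : IsZero Z₀ := isZero_cokernel_of_epi _
    have hc : Coh.IsCoh Z₀ := KRes.CohP.isCoh_of_isZero X hz
    have hs : ∀ x, ¬ Nontrivial (Z₀.presheaf.stalk x) := fun x => by
      rw [not_nontrivial_iff_subsingleton]
      exact AddCommGrpCat.subsingleton_of_isZero ((Modules.Stalk.stalkFunctor X x).map_isZero hz)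
    exact ⟨Z₀, ⟨hc, fun x hx => absurd hx (hs x)⟩,
      mk_eq_zero δ k (k - 1) ⟨hc, fun x hx => absurd hx (hs x)⟩⟩
  refine ⟨ψ k hδ, fun F hF => ψ_cl k hδ hF, ?_, ?_⟩
  · refine (injective_iff_map_eq_zero _).2 fun x hx => ?_
    obtain ⟨A, B, hA, hB, rfl⟩ := exists_sub k x hZ h0
    rw [map_sub, ψ_cl k hδ hA, ψ_cl k hδ hB, sub_eq_zero] at hx
    rw [cl_eq_cycleSheaf k hδ hA, cl_eq_cycleSheaf k hδ hB, hx, sub_self]
  · ext a
    constructor
    · rintro ⟨x, rfl⟩
      obtain ⟨A, B, hA, hB, rfl⟩ := exists_sub k x hZ h0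
      rw [map_sub, ψ_cl k hδ hA, ψ_cl k hδ hB]
      refine ⟨⟨Cyc.sheafFun δ k A - Cyc.sheafFun δ k B, Set.subset_univ _, fun z _ => ?_⟩,
        fun y hy => by simp [Cyc.sheafFun, hy], rfl⟩
      obtain ⟨U, hU, fU⟩ := finite_support k hδ hA z
      obtain ⟨V, hV, fV⟩ := finite_support k hδ hB z
      refine ⟨U ⊓ V, (U ⊓ V).2.mem_nhds ⟨hU, hV⟩, (fU.union fV).subset ?_⟩
      rintro y ⟨⟨hyU, hyV⟩, hy⟩
      by_contra hn
      simp only [Set.mem_union, Set.mem_inter_iff, Set.mem_setOf_eq, not_or, not_and] at hn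
      apply hy
      simp only [Pi.sub_apply, Cyc.sheafFun]
      by_cases hyk : δ y = k
      · haveI := not_nontrivial_iff_subsingleton.1 (hn.1 hyU hyk)
        haveI := not_nontrivial_iff_subsingleton.1 (hn.2 hyV hyk)
        simp [if_pos hyk]
      · simp [if_neg hyk]
    · rintro ⟨α, hα, rfl⟩
      have hfin : ∀ x : X, ∃ U : X.Opens, x ∈ U ∧ ((U : Set X) ∩ (⇑α).support).Finite := fun x => by
        obtain ⟨t, ht, hf⟩ := α.supportLocallyFiniteWithinDomain' x trivial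
        obtain ⟨U, hUt, hU, hxU⟩ := mem_nhds_iff.1 ht
        exact ⟨⟨U, hU⟩, hxU, hf.subset (Set.inter_subset_inter_left _ hUt)⟩
      have hk : ∀ x, α x ≠ 0 → δ x = k := fun x hx => by by_contra h; exact hx (hα x h)
      obtain ⟨hP, hPl⟩ := Sum.cycleSheaf_spec hδ k ⇑α hk hfin
      obtain ⟨hN, hNl⟩ := Sum.cycleSheaf_spec hδ k (-⇑α) (fun x hx => hk x (by simpa using hx))
        (by simpa [Function.support_neg] using hfin)
      refine ⟨Cyc.toK0CohQuot δ k (k - 1) (Cyc.cycleSheafPos ⇑α) -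
        Cyc.toK0CohQuot δ k (k - 1) (Cyc.cycleSheafPos (-⇑α)), ?_⟩
      rw [map_sub, ψ_cl k hδ hP, ψ_cl k hδ hN]
      funext y
      simp only [Pi.sub_apply, Cyc.sheafFun]
      by_cases hy : δ y = k
      · rw [if_pos hy, if_pos hy, (hPl y hy).1, (hNl y hy).1, ENat.toNat_coe, ENat.toNat_coe,
          Pi.neg_apply, Int.toNat_sub_toNat_neg]
      · rw [if_neg hy, if_neg hy, sub_zero]
        exact (hα y hy).symm

end

end Groth.Agent.Lib.Cyc.K0.Cycles
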