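import Groth.Agent.Lib.Modules.StalkModule
import Groth.Agent.Lib.QCoh.Localizing
import Mathlib.Topology.Sheaves.SheafCondition.UniqueGluing

/-!
Skyscraper modules supported on a discrete, locally finite family of points.
-/

set_option autoImplicit false
universe u

open CategoryTheory Limits AlgebraicGeometry Opposite TopologicalSpace

namespace Groth.Agent.Lib.Cyc.K0.SkyFam

open QCoh.Localizing

noncomputable section

variable {X : Scheme.{u}} (D : Set X) (L : D → Type u) [∀ y, AddCommGroup (L y)]
  [∀ y : D, Module (X.presheaf.stalk y.1) (L y)]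

/-- Sections over `U`. -/
abbrev Sec (U : X.Opens) : Type u := ∀ y : D, PLift (y.1 ∈ U) → L y

instance secModule (U : X.Opens) : Module Γ(X, U) (Sec D L U) where
  smul r f y h := X.presheaf.germ U y.1 h.down r • f y h
  one_smul f := funext fun y => funext fun h => show X.presheaf.germ U y.1 h.down 1 • f y h = f y h by
    rw [map_one, one_smul]
  mul_smul r s f := funext fun y => funext fun h => show X.presheaf.germ U y.1 h.down (r * s) • f y h = _ by
    rw [map_mul, mul_smul]; rfl
  smul_zero r := funext fun y => funext fun h =>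
    show X.presheaf.germ U y.1 h.down r • (0 : L y) = 0 from smul_zero _
  smul_add r f g := funext fun y => funext fun h => smul_add _ (f y h) (g y h)
  add_smul r s f := funext fun y => funext fun h => show X.presheaf.germ U y.1 h.down (r + s) • f y h = _ by
    rw [map_add, add_smul]; rfl
  zero_smul f := funext fun y => funext fun h => show X.presheaf.germ U y.1 h.down 0 • f y h = (0 : L y) by
    rw [map_zero, zero_smul]

/-- The presheaf of groups. -/
def skyAb : X.Opensᵒᵖ ⥤ AddCommGrpCat.{u} where
  obj U := AddCommGrpCat.of (Sec D L U.unop)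
  map i := AddCommGrpCat.ofHom
    { toFun := fun f y h => f y ⟨i.unop.le h.down⟩
      map_zero' := rfl
      map_add' := fun _ _ => rfl }

instance (U : X.Opensᵒᵖ) : Module (X.ringCatSheaf.obj.obj U) ((skyAb D L).obj U) :=
  secModule D L U.unop

/-- The presheaf of modules. -/
def skyPre : PresheafOfModules.{u} X.ringCatSheaf.obj :=
  PresheafOfModules.ofPresheaf (R := X.ringCatSheaf.obj) (skyAb D L) fun U V i r f =>
    funext fun (y : D) => funext fun (h : PLift (y.1 ∈ V.unop)) => by
      show X.presheaf.germ U.unop y.1 (i.unop.le h.down) r • f y _ =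
        X.presheaf.germ V.unop y.1 h.down (X.presheaf.map i r) • f y _
      exact congrArg (· • f y _) (TopCat.Presheaf.germ_res_apply X.presheaf i.unop y.1 h.down r).symm

lemma isSheaf_skyAb : TopCat.Presheaf.IsSheaf (skyAb D L) := by
  rw [TopCat.Presheaf.isSheaf_iff_isSheafUniqueGluing]
  intro ι U sf hsf
  refine ⟨fun y h => sf (Opens.mem_iSup.mp h.down).choose y ⟨(Opens.mem_iSup.mp h.down).choose_spec⟩,
    fun i => funext fun y => funext fun h => ?_, fun s hs => funext fun y => funext fun h => ?_⟩
  · exact congrFun (congrFun (hsf _ i) y)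
      ⟨⟨(Opens.mem_iSup.mp ((le_iSup U i) h.down)).choose_spec, h.down⟩⟩
  · exact congrFun (congrFun (hs (Opens.mem_iSup.mp h.down).choose) y)
      ⟨(Opens.mem_iSup.mp h.down).choose_spec⟩

/-- The module. -/
def sky : X.Modules where
  val := skyPre D L
  isSheaf := isSheaf_skyAb D L

variable {D L}

lemma germ_eq_iff {y : D} (hsep : ∃ W : X.Opens, y.1 ∈ W ∧ ∀ y' : D, y'.1 ∈ W → y' = y)
    {U V : X.Opens} (hU : y.1 ∈ U) (hV : y.1 ∈ V) (f : Γ(sky D L, U)) (g : Γ(sky D L, V)) :
    (sky D L).presheaf.germ U y.1 hU f = (sky D L).presheaf.germ V y.1 hV g ↔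
      (show Sec D L U from f) y ⟨hU⟩ = (show Sec D L V from g) y ⟨hV⟩ := by
  constructor
  · intro h
    obtain ⟨W, hW, iU, iV, e⟩ := TopCat.Presheaf.germ_eq (sky D L).presheaf y.1 hU hV f g h
    exact congrFun (congrFun e y) ⟨hW⟩
  · intro h
    obtain ⟨W, hyW, hW⟩ := hsep
    refine TopCat.Presheaf.germ_ext (sky D L).presheaf (U ⊓ V ⊓ W) ⟨⟨hU, hV⟩, hyW⟩
      (homOfLE (inf_le_left.trans inf_le_left)) (homOfLE (inf_le_left.trans inf_le_right))
      (funext fun y' => funext fun h' => ?_)
    obtain rfl := hW y' h'.down.2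
    exact h

variable {M : X.Modules}

/-- The morphism given by linear maps on stalks. -/
def toSky (φ : ∀ y : D, M.presheaf.stalk y.1 →ₗ[X.presheaf.stalk y.1] L y) : M ⟶ sky D L where
  val := PresheafOfModules.homMk
    { app := fun U => AddCommGrpCat.ofHom
        { toFun := fun (s : Γ(M, U.unop)) (y : D) (h : PLift (y.1 ∈ U.unop)) =>
            φ y (M.presheaf.germ U.unop y.1 h.down s)
          map_zero' := funext fun y => funext fun h => by
            exact (congrArg (φ y) (map_zero (M.presheaf.germ U.unop y.1 h.down).hom)).trans (map_zero (φ y))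
          map_add' := fun a b => funext fun y => funext fun h => by
            exact (congrArg (φ y) (map_add (M.presheaf.germ U.unop y.1 h.down).hom a b)).trans
              (map_add (φ y) _ _) }
      naturality := fun U V i => by
        ext (s : Γ(M, U.unop))
        exact funext fun y => funext fun (h : PLift (y.1 ∈ V.unop)) =>
          congrArg (φ y) (TopCat.Presheaf.germ_res_apply M.presheaf i.unop y.1 h.down s) }
    fun U r s => funext fun y => funext fun (h : PLift (y.1 ∈ U.unop)) => by
      show φ y (M.presheaf.germ U.unop y.1 h.down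
          ((show Γ(X, U.unop) from r) • (show Γ(M, U.unop) from s))) =
        X.presheaf.germ U.unop y.1 h.down r • φ y (M.presheaf.germ U.unop y.1 h.down s)
      rw [Modules.StalkModule.germ_smul, map_smul]

lemma bijective_stalk_toSky (φ : ∀ y : D, M.presheaf.stalk y.1 →ₗ[X.presheaf.stalk y.1] L y)
    {y : D} (hsep : ∃ W : X.Opens, y.1 ∈ W ∧ ∀ y' : D, y'.1 ∈ W → y' = y)
    (hy : Function.Bijective (φ y)) :
    Function.Bijective (Modules.StalkModule.stalkMapₗ (toSky φ) y.1) := by
  constructor
  · intro a b hab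
    obtain ⟨U, hU, s, rfl⟩ := TopCat.Presheaf.exists_germ_eq M.presheaf a
    obtain ⟨V, hV, t, rfl⟩ := TopCat.Presheaf.exists_germ_eq M.presheaf b
    rw [Modules.StalkModule.stalkMapₗ_germ, Modules.StalkModule.stalkMapₗ_germ] at hab
    exact hy.1 ((germ_eq_iff hsep hU hV _ _).mp hab)
  · intro z
    obtain ⟨U, hU, f, rfl⟩ := TopCat.Presheaf.exists_germ_eq (sky D L).presheaf z
    obtain ⟨a, ha⟩ := hy.2 ((show Sec D L U from f) y ⟨hU⟩)
    obtain ⟨V, hV, s, rfl⟩ := TopCat.Presheaf.exists_germ_eq M.presheaf a
    refine ⟨M.presheaf.germ V y.1 hV s, ?_⟩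
    rw [Modules.StalkModule.stalkMapₗ_germ]
    exact (germ_eq_iff hsep hV hU _ _).mpr ha

variable (D L) in
/-- Quasi-coherence, for locally finite families killed by powers of maximal ideals. -/
theorem isQCoh_sky
    (hL : ∀ (y : D) (a : X.presheaf.stalk y.1), ¬ IsUnit a → ∀ l : L y, a • l = 0) :
    (sky D L).IsQuasicoherent := by
  classical
  refine isQCoh_of_forall_exists_localizes fun x => ?_
  obtain ⟨U, hU, hxU, -⟩ := exists_isAffineOpen_mem_and_subset (U := ⊤) (x := x) trivial
  refine ⟨U, hU, hxU, fun f => ⟨fun s => ?_, fun t ht => ?_⟩⟩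
  · refine ⟨0, fun (y : D) (h : PLift (y.1 ∈ U)) => (if h' : y.1 ∈ X.basicOpen f then
      (show Sec D L (X.basicOpen f) from s) y ⟨h'⟩ else 0), ?_⟩
    rw [pow_zero, one_smul]
    refine funext fun y => funext fun (h : PLift (y.1 ∈ X.basicOpen f)) => ?_
    exact dif_pos h.down
  · refine ⟨1, funext fun y => funext fun (h : PLift (y.1 ∈ U)) => ?_⟩
    show X.presheaf.germ U y.1 h.down (f ^ 1) • (show Sec D L U from t) y h = 0
    rw [pow_one]
    by_cases hf : y.1 ∈ X.basicOpen f
    · rw [show (show Sec D L U from t) y h = 0 from congrFun (congrFun ht y) ⟨hf⟩, smul_zero]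
    · exact hL y _ (fun hu => hf ((RingedSpace.mem_basicOpen _ f y.1 h.down).mpr hu)) _

end

end Groth.Agent.Lib.Cyc.K0.SkyFam
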